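import Cfsg.Agent.Lib.DihedralDefect.Spurious
import Cfsg.Agent.Lib.DihedralDefect.Nilpotent
import Cfsg.Agent.Lib.Blocks.CountBound.Quotient
import Cfsg.Agent.Lib.TwoGroups.QuasiDihedral

/-!
# Blocks of rank three with dihedral or semidihedral defect group: no central involution
-/

set_option autoImplicit false
set_option linter.unusedSectionVars false
set_option linter.style.haveILetI false

namespace Cfsg.Agent.DihedralDefect

open Cfsg Blocks
open Cfsg.Agent.BrauerPairs (blk blkG conjEl IsMax IsPairOf isBlockIdem_blkG)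
open Cfsg.Agent.Blocks.NilRank
open scoped Classical ComplexConjugate

universe u

variable {G : Type u} [Group G] [Fintype G] {M : Ideal AlgInt}

section Dihedral

variable {P : Subgroup G} {σ τ : G} {M₀ : ℕ} [NeZero (2 * M₀)] [M.IsMaximal]
  [Fact (Nat.Prime 2)] [CharP (AlgInt ⧸ M) 2]
  {B : Set (IrrCharacter G)} {e : MonoidAlgebra (AlgInt ⧸ M) G} {f : IrrCharacter G → P → ℂ}

/-- An element of the defect group fused into no rotation adds one to `k(B) - l(B)`. -/
theorem add_one_le_card (hpM : ((2 : ℕ) : AlgInt) ∈ M) (hB : IsPBlock M B)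
    (ha : IsMax 2 (blkG M B) (P, e)) (hC : CentralData M 2 P e (σ ^ M₀) f) (hD : DiData P σ τ M₀)
    {v : G} (hv : v ∈ P) (hv1 : ∀ (g : G), ∀ r ∈ Subgroup.zpowers σ, g * v * g⁻¹ ≠ r) :
    blockRank 2 B + M₀ + 1 ≤ Nat.card B := by
  have h2 := hD.two_le
  let r : Fin M₀ → ZMod (2 * M₀) := fun i => (((i : ℕ) + 1 : ℕ) : ZMod (2 * M₀))
  have hr : ∀ i, r i ≠ 0 := fun i => by
    rw [Ne, natCast_eq_zero_iff_lt (M₀ := M₀) (by omega)]
    omega
  let x : Option (Option (Fin M₀)) → P := fun o =>
    o.elim ⟨v, hv⟩ fun o' => o'.elim 1 fun i => rot hD (r i)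
  let q : Option (Option (Fin M₀)) → G × MonoidAlgebra (AlgInt ⧸ M) G := fun o =>
    ((x o : G), eU 2 P e (x o : G))
  have hone : ∀ (g : G) (i : Fin M₀), g * (rot hD (r i) : G) * g⁻¹ ≠ 1 := fun g i h => by
    rw [mul_inv_eq_one, mul_eq_left] at h
    exact rot_ne_one hD (hr i) h
  have hrot : ∀ o : Option (Fin M₀), (x (some o) : G) ∈ Subgroup.zpowers σ := fun o => by
    cases o with
    | none => exact one_mem _
    | some i => exact rot_mem hD (r i)
  have hne : ∀ o o', o ≠ o' → q o' ∉ pairOrbit (q o) := by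
    intro o o' hoo h
    obtain ⟨g, hg, hge⟩ := mem_pairOrbit.1 h
    rcases o with _ | o
    · rcases o' with _ | o'
      · exact hoo rfl
      · exact hv1 g _ (hrot o') hg
    rcases o' with _ | o'
    · have hg' : g * (x (some o) : G) * g⁻¹ = v := hg
      exact hv1 g⁻¹ _ (hrot o) (by rw [← hg']; group)
    cases o with
    | none =>
      cases o' with
      | none => exact hoo rfl
      | some i =>
        refine hone 1 i ?_
        have : g * (1 : G) * g⁻¹ = (rot hD (r i) : G) := hg
        simpa using this.symm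
    | some i =>
      cases o' with
      | none => exact hone g i hg
      | some l =>
        refine hoo (congrArg (some ∘ some) (Fin.ext ?_))
        rcases conj_rot_eq hC hD (hr i) hg hge with hc | hc
        · have := (natCast_eq_natCast (M₀ := M₀) (a := (l : ℕ) + 1) (b := (i : ℕ) + 1) (by omega) (by omega)).1 hc
          omega
        · have h0 : (((l : ℕ) + 1 + ((i : ℕ) + 1) : ℕ) : ZMod (2 * M₀)) = 0 := by
            rw [Nat.cast_add]
            show r l + r i = 0
            rw [hc, neg_add_cancel]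
          rw [natCast_eq_zero_iff_lt (M₀ := M₀) (by omega)] at h0
          omega
  have hle := sum_pairRank_le (M := M) hpM hB q (fun o => mem_secPairs_eU hpM hB ha.1 (x o).2) hne
  rw [Fintype.sum_option, Fintype.sum_option] at hle
  have hsome : ∀ i, pairRank 2 (q (some (some i))) = 1 := fun i =>
    hC.rank _ (rot_centralizer_le hD (hr i))
  have hnone : pairRank 2 (q (some none)) = blockRank 2 B := pairRank_one hB ha.1
  have hv' : 1 ≤ pairRank 2 (q none) := one_le_pairRank hpM hB ha.1 hv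
  simp only [hsome, hnone, Finset.sum_const, Finset.card_univ, Fintype.card_fin, smul_eq_mul,
    mul_one] at hle
  omega

end Dihedral

/-- The regular restrictions of a block are those of the dominated block of a central quotient. -/
theorem blockRank_le_dominated [M.IsMaximal] {p : ℕ} [Fact p.Prime] (Z : Subgroup G) [Z.Normal]
    (hZ : Z ≤ Subgroup.center G) (hZp : IsPGroup p Z) (hpM : (p : AlgInt) ∈ M)
    {B : Set (IrrCharacter G)} (hB : IsPBlock M B) :
    blockRank p B ≤ blockRank p (CountBound.dominated Z B) := by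
  haveI := Fintype.ofFinite (G ⧸ Z)
  let L : (G ⧸ Z → ℂ) →ₗ[ℂ] (G → ℂ) :=
    { toFun := fun φ g => if IsPRegular p g then φ (g : G ⧸ Z) else 0
      map_add' := fun a b => by funext g; simp only [Pi.add_apply]; split_ifs <;> simp
      map_smul' := fun c a => by funext g; simp only [Pi.smul_apply]; split_ifs <;> simp }
  set W := Submodule.span ℂ
    ((fun ξ : IrrCharacter (G ⧸ Z) => pRegularPart p ξ.1) '' CountBound.dominated Z B)
  have hle : Submodule.span ℂ ((fun χ : IrrCharacter G => pRegularPart p χ.1) '' B) ≤ W.map L := by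
    rw [Submodule.span_le]
    rintro _ ⟨η, hη, rfl⟩
    obtain ⟨n, hn, hsum⟩ := CountBound.exists_regular_comb Z hZ hZp hpM hB hη
    refine ⟨∑ ξ, (n ξ : ℂ) • pRegularPart p ξ.1, Submodule.sum_mem _ fun ξ _ => ?_, ?_⟩
    · by_cases h0 : n ξ = 0
      · simp [h0]
      · exact Submodule.smul_mem _ _ (Submodule.subset_span ⟨ξ, hn ξ h0, rfl⟩)
    · funext g
      show (if IsPRegular p g then _ else 0) = pRegularPart p η.1 g
      by_cases hg : IsPRegular p g
      · have hg' : IsPRegular p (g : G ⧸ Z) := CountBound.isPRegular_mk_iff Z hZ hZp hg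
        simp only [pRegularPart, if_pos hg, if_pos hg', Finset.sum_apply, Pi.smul_apply, smul_eq_mul,
          hsum g hg]
      · simp only [pRegularPart, if_neg hg]
  exact (Submodule.finrank_mono hle).trans (Submodule.finrank_map_le L W)

/-- Dihedral defect group and a central involution in it: the block is nilpotent. -/
theorem blockRank_eq_one_of_dihedral {P : Subgroup G} {σ τ : G} {M₀ : ℕ} (hM : IsPModular 2 M)
    {B : Set (IrrCharacter G)} (hB : IsPBlock M B) (hD : IsDefectGroup 2 M B P)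
    (hσ : DiData P σ τ M₀) (hz : σ ^ M₀ ∈ Subgroup.center G) : blockRank 2 B = 1 := by
  haveI := hM.2.1
  haveI : Fact (Nat.Prime 2) := ⟨Nat.prime_two⟩
  have hpM := hM.2.2
  haveI := charP_residue (p := 2) (M := M) hpM
  obtain ⟨e₀, -, ha₀⟩ := BrauerPairs.exists_isMax_of_isDefectGroup hB hD
  obtain ⟨e, f, ha, -, hC⟩ := exists_centralData hM hB ha₀ hσ.z_mem (fun v hv => hσ.z_comm hv)
    (isNilpotentBlock_central hB ha₀ hσ)
  rw [← pairRank_one hB ha.1]
  exact hC.rank 1 fun g _ => Subgroup.mem_centralizer_singleton_iff.2 (Subgroup.mem_center_iff.1 hz g)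

/-- Semidihedral defect group and a central involution in it: rank at most two. -/
theorem blockRank_le_two_of_quasiDihedral {P : Subgroup G} (hM : IsPModular 2 M)
    {B : Set (IrrCharacter G)} (hB : IsPBlock M B) (hD : IsDefectGroup 2 M B P) {x y : P} {m : ℕ}
    (h : TwoGroups.QDGen x y m) (hc : (x : G) ^ ((4 : ℤ) * 2 ^ m) ∈ Subgroup.center G) :
    blockRank 2 B ≤ 2 := by
  haveI := hM.2.1
  haveI : Fact (Nat.Prime 2) := ⟨Nat.prime_two⟩
  have hpM := hM.2.2
  haveI := charP_residue (p := 2) (M := M) hpM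
  set c : G := (x : G) ^ ((4 : ℤ) * 2 ^ m) with hcd
  have hzpow : ∀ i : ℤ, ((x ^ i : P) : G) = (x : G) ^ i := fun i => Subgroup.coe_zpow P x i
  have hpos : (0 : ℤ) < 2 ^ m := by positivity
  have hc1 : c ≠ 1 := fun e => by
    have e' : x ^ ((4 : ℤ) * 2 ^ m) = 1 := Subtype.ext (by rw [hzpow]; exact e)
    rw [h.zpow_eq_one_iff] at e'
    have := Int.le_of_dvd (by positivity) e'
    omega
  have hcc : c * c = 1 := by
    rw [hcd, ← zpow_add, ← hzpow, ← OneMemClass.coe_one P, Subtype.coe_inj, h.zpow_eq_one_iff]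
    exact ⟨1, by ring⟩
  set Z := Subgroup.zpowers c with hZd
  have hZ : Z ≤ Subgroup.center G := Subgroup.zpowers_le.2 hc
  haveI : Z.Normal := ⟨fun n hn g => by
    rwa [Subgroup.mem_center_iff.1 (hZ hn) g, mul_inv_cancel_right]⟩
  have hcardZ : Nat.card Z = 2 := by
    rw [hZd, Nat.card_zpowers]
    exact orderOf_eq_prime (by rw [pow_two, hcc]) hc1
  have hZp : IsPGroup 2 Z := IsPGroup.of_card (n := 1) (by rw [hcardZ, pow_one])
  have hmemZ : ∀ w, w ∈ Z → w = 1 ∨ w = c := fun w hw => by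
    obtain ⟨j, rfl⟩ := Subgroup.mem_zpowers_iff.1 hw
    rcases Int.even_or_odd j with ⟨d, rfl⟩ | ⟨d, rfl⟩
    · left; rw [← two_mul, zpow_mul, zpow_two, hcc, one_zpow]
    · right; rw [zpow_add, zpow_mul, zpow_two, hcc, one_zpow, one_mul, zpow_one]
  refine (blockRank_le_dominated Z hZ hZp hpM hB).trans ?_
  set B' := CountBound.dominated Z B with hB'd
  have hB' : IsPBlock M B' := CountBound.isPBlock_dominated Z hZ hZp hpM hB
  have hD' := CountBound.isDefectGroup_dominated Z hZ hZp hpM hB hD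
  have hcard := CountBound.card_map_mul Z hZ hZp hpM hB hD
  rw [hcardZ, h.card] at hcard
  set π := QuotientGroup.mk' Z with hπ
  set Pb := P.map π with hPb
  set M₁ := 2 * 2 ^ m with hM₁
  -- powers of the image of `x`
  have hone : ∀ i : ℤ, π (x : G) ^ i = 1 ↔ (4 : ℤ) * 2 ^ m ∣ i := by
    intro i
    rw [← map_zpow, hπ, QuotientGroup.mk'_apply, QuotientGroup.eq_one_iff]
    constructor
    · intro hi
      rcases hmemZ _ hi with e | e
      · rw [← hzpow, ← OneMemClass.coe_one P, Subtype.coe_inj, h.zpow_eq_one_iff] at e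
        exact dvd_trans ⟨2, by ring⟩ e
      · rw [hcd, ← hzpow, ← hzpow, Subtype.coe_inj, h.zpow_eq_iff] at e
        exact (dvd_sub_left (dvd_refl _)).1 (dvd_trans ⟨2, by ring⟩ e)
    · rintro ⟨j, rfl⟩
      rw [zpow_mul]
      exact zpow_mem (Subgroup.mem_zpowers c) j
  have hdi : DiData Pb (π (x : G)) (π (y : G)) M₁ := by
    refine ⟨by have := Nat.two_pow_pos m; omega, ⟨m + 1, by rw [hM₁, pow_succ']⟩,
      Subgroup.mem_map_of_mem _ x.2, Subgroup.mem_map_of_mem _ y.2, ?_, ?_, ?_, ?_, ?_, by omega⟩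
    · refine Nat.dvd_antisymm ?_ ?_
      · refine orderOf_dvd_of_pow_eq_one ?_
        rw [← zpow_natCast, hone]
        exact ⟨1, by rw [hM₁]; push_cast; ring⟩
      · have := (hone (orderOf (π (x : G)))).1 (by rw [zpow_natCast, pow_orderOf_eq_one])
        rw [hM₁, ← Int.natCast_dvd_natCast]
        refine dvd_trans ⟨1, by push_cast; ring⟩ this
    · rw [← map_mul, ← Subgroup.coe_mul, h.y_mul_self, OneMemClass.coe_one, map_one]
    · have e : (y : G) * x * (y : G)⁻¹ = (x : G) ^ ((4 : ℤ) * 2 ^ m - 1) := by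
        rw [← hzpow, ← h.conj]; rfl
      rw [← map_inv, ← map_mul, ← map_mul, e, map_zpow, eq_inv_iff_mul_eq_one, ← zpow_add_one, hone]
      exact ⟨1, by ring⟩
    · intro hy
      obtain ⟨j, hj⟩ := Subgroup.mem_zpowers_iff.1 hy
      rw [← map_zpow, hπ, QuotientGroup.mk'_apply, QuotientGroup.mk'_apply, QuotientGroup.eq] at hj
      rcases hmemZ _ hj with e | e
      · refine h.not_mem_zpowers ⟨j, Subtype.ext ?_⟩
        rw [inv_mul_eq_one] at e
        simpa using e
      · refine h.not_mem_zpowers ⟨j + 4 * 2 ^ m, Subtype.ext ?_⟩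
        rw [inv_mul_eq_iff_eq_mul] at e
        show ((x ^ (j + 4 * 2 ^ m) : P) : G) = y
        rw [hzpow, zpow_add, e]
    · rintro _ ⟨w, hw, rfl⟩
      obtain ⟨i, hi | hi⟩ := h.exists_form (⟨w, hw⟩ : P)
      · refine Or.inl ⟨i, ?_⟩
        show π (x : G) ^ i = π w
        rw [← map_zpow, ← hzpow, ← hi]
      · refine Or.inr ⟨(4 * 2 ^ m - 1) * i, ?_⟩
        show π (x : G) ^ _ = π y * π w
        have e : y * (⟨w, hw⟩ : P) = x ^ (((4 : ℤ) * 2 ^ m - 1) * i) := by
          rw [hi, ← mul_assoc, h.y_mul_zpow, mul_assoc, h.y_mul_self, mul_one]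
        have e' := congrArg Subtype.val e
        rw [hzpow, Subgroup.coe_mul] at e'
        rw [← map_zpow, ← map_mul, ← e']
  haveI : NeZero (2 * M₁) := ⟨by have := Nat.two_pow_pos m; omega⟩
  obtain ⟨e₀, -, ha₀⟩ := BrauerPairs.exists_isMax_of_isDefectGroup hB' hD'
  obtain ⟨e, f, ha, -, hC⟩ := exists_centralData hM hB' ha₀ hdi.z_mem
    (fun v hv => hdi.z_comm hv) (isNilpotentBlock_central hB' ha₀ hdi)
  obtain ⟨hk, -, -, -, -⟩ := invariants_of_not_spur hC hdi hpM hB' ha
    (fun h4 => not_spur hdi hpM hB' ha hC h4)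
  -- the image of `y` is fused into no rotation
  have hv : ∀ g : G ⧸ Z, ∀ r ∈ Subgroup.zpowers (π (x : G)), g * π (y : G) * g⁻¹ ≠ r := by
    intro g r hr heq
    have hy2 : π (y : G) * π (y : G) = 1 := hdi.τ_sq
    have hr2 : r * r = 1 := by
      rw [← heq, show g * π (y : G) * g⁻¹ * (g * π (y : G) * g⁻¹) = g * (π (y : G) * π (y : G)) * g⁻¹
        by group, hy2, mul_one, mul_inv_cancel]
    rcases hdi.rot_sq hr hr2 with e | e
    · rw [e, mul_inv_eq_one, mul_eq_left] at heq
      exact hdi.τ_not (heq ▸ one_mem _)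
    obtain ⟨a, rfl⟩ := QuotientGroup.mk'_surjective Z g
    rw [e, ← map_inv, ← map_mul, ← map_mul, ← map_pow, hπ, QuotientGroup.mk'_apply,
      QuotientGroup.mk'_apply, QuotientGroup.eq] at heq
    set w := a * (y : G) * a⁻¹ with hw
    have hw2 : w * w = 1 := by
      rw [hw, show a * (y : G) * a⁻¹ * (a * (y : G) * a⁻¹) = a * ((y : G) * y) * a⁻¹ by group,
        ← Subgroup.coe_mul, h.y_mul_self, OneMemClass.coe_one, mul_one, mul_inv_cancel]
    have hsq : (x : G) ^ M₁ * (x : G) ^ M₁ = c := by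
      rw [← zpow_natCast, ← zpow_add, hcd]
      congr 1
      rw [hM₁]; push_cast; ring
    refine hc1 ?_
    rcases hmemZ _ heq with e' | e'
    · rw [← hsq, ← inv_mul_eq_one.1 e', hw2]
    · rw [← hsq, inv_mul_eq_iff_eq_mul.1 e']
      calc w * c * (w * c) = w * (c * w) * c := by group
        _ = w * (w * c) * c := by rw [Subgroup.mem_center_iff.1 hc w]
        _ = w * w * (c * c) := by group
        _ = 1 := by rw [hw2, hcc, mul_one]
  have := add_one_le_card hpM hB' ha hC hdi (Subgroup.mem_map_of_mem _ y.2) hv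
  omega

end Cfsg.Agent.DihedralDefect
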