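import Cfsg.Agent.Lib.PCore.Faithful
import Cfsg.Agent.Lib.TameBlock.Criterion
import Cfsg.Agent.Lib.Transfer.Burnside
import Cfsg.Agent.Lib.TwoGroups.QuasiDihedral
import Mathlib.GroupTheory.SpecificGroups.Dihedral

/-!
# Solvable groups with `O(X) = 1` and a dihedral or semidihedral Sylow 2-subgroup

Such a group has at most two classes of elements of odd order.
-/

set_option autoImplicit false
set_option linter.style.haveILetI false

namespace Cfsg.Agent.DihedralDefect

open Subgroup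

universe u v

/-- A cyclic subgroup of index two, all elements outside of smaller order. -/
structure CyclicTwo (D : Type u) [Group D] : Prop where
  ex : ∃ a : D, (zpowers a).index = 2 ∧ ∀ v, v ∉ zpowers a → orderOf v < orderOf a

theorem CyclicTwo.congr {D : Type u} {E : Type v} [Group D] [Group E] (h : CyclicTwo D)
    (φ : D ≃* E) : CyclicTwo E := by
  obtain ⟨a, ha, hv⟩ := h.ex
  have hmap : (zpowers a).map φ.toMonoidHom = zpowers (φ a) := φ.toMonoidHom.map_zpowers a
  refine ⟨φ a, ?_, fun v hvn => ?_⟩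
  · rw [← hmap, index_map_of_bijective φ.bijective, ha]
  · obtain ⟨w, rfl⟩ := φ.surjective v
    rw [φ.orderOf_eq, φ.orderOf_eq]
    refine hv w fun hw => hvn ?_
    rw [← hmap]
    exact ⟨w, hw, rfl⟩

theorem cyclicTwo_dihedral {m : ℕ} (hm : 3 ≤ m) : CyclicTwo (DihedralGroup m) := by
  haveI : NeZero m := ⟨by omega⟩
  have hord : orderOf (DihedralGroup.r (1 : ZMod m)) = m := DihedralGroup.orderOf_r_one
  refine ⟨DihedralGroup.r 1, ?_, fun v hv => ?_⟩
  · have h := (zpowers (DihedralGroup.r (1 : ZMod m))).card_mul_index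
    rw [Nat.card_zpowers, hord, DihedralGroup.nat_card, mul_comm 2] at h
    exact Nat.eq_of_mul_eq_mul_left (by omega) h
  · rcases v with i | i
    · exact absurd ⟨(i.val : ℤ), by simp⟩ hv
    · rw [DihedralGroup.orderOf_sr, hord]
      omega

theorem cyclicTwo_quasiDihedral {D : Type u} [Group D] [Finite D] (h : Cfsg.IsQuasiDihedral D) :
    CyclicTwo D := by
  obtain ⟨x, y, m, h⟩ := TwoGroups.exists_qdGen h
  refine ⟨x, h.index_zpowers, fun v hv => ?_⟩
  obtain ⟨i, rfl | rfl⟩ := h.exists_form v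
  · exact absurd (zpow_mem_zpowers x i) hv
  · have h1 := Nat.le_of_dvd (by norm_num) (orderOf_dvd_of_pow_eq_one (h.xy_pow_four i))
    have h2 := Nat.two_pow_pos m
    rw [h.ordX]
    omega

variable {G : Type u} [Group G] [Finite G]

/-- An element of odd order normalising such a subgroup centralises it. -/
theorem CyclicTwo.centralizes {P : Subgroup G} (hP : IsPGroup 2 P) (hc : CyclicTwo P) {x : G}
    (hodd : Odd (orderOf x)) (hx : ∀ q ∈ P, x * q * x⁻¹ ∈ P) : x ∈ centralizer (P : Set G) := by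
  obtain ⟨⟨a, ha⟩, hidx, hlt⟩ := hc.ex
  have hout : ∀ w : P, w ∉ zpowers (⟨a, ha⟩ : P) ↔ (w : G) ∉ zpowers a := fun w => by
    refine not_congr ?_
    constructor
    · rintro ⟨k, hk⟩; exact ⟨k, by rw [← hk]; simp⟩
    · rintro ⟨k, hk⟩; exact ⟨k, Subtype.ext (by simpa using hk)⟩
  have hconj : ∀ q ∈ zpowers a, x * q * x⁻¹ ∈ zpowers a := by
    have h1 : x * a * x⁻¹ ∈ zpowers a := by
      by_contra h
      have := hlt ⟨_, hx a ha⟩ ((hout _).2 h)
      simp only [← Subgroup.orderOf_coe] at this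
      exact this.ne (MulEquiv.orderOf_eq (MulAut.conj x) a)
    rintro q ⟨k, rfl⟩
    show x * a ^ k * x⁻¹ ∈ _
    rw [← conj_zpow]
    exact zpow_mem h1 k
  obtain ⟨c, hcord⟩ := IsPGroup.iff_orderOf.1 hP ⟨a, ha⟩
  have hidx' : ∃ w : P, w ∉ zpowers (⟨a, ha⟩ : P) := by
    by_contra! hall
    rw [(eq_top_iff' _).2 hall, index_top] at hidx
    omega
  obtain ⟨w₀, hw₀⟩ := hidx'
  obtain ⟨c, rfl⟩ : ∃ d, c = d + 1 := by
    refine Nat.exists_eq_succ_of_ne_zero fun h0 => ?_
    have := hlt w₀ hw₀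
    rw [hcord, h0, pow_zero] at this
    have := orderOf_pos w₀
    omega
  haveI := Fintype.ofFinite G
  have hfix := TameBlock.fix_of_le_zpowers (σ := a) (by rw [← hcord, Subgroup.orderOf_mk]) hodd le_rfl
    hconj
  refine mem_centralizer_iff.2 fun v hv => ?_
  suffices x * v * x⁻¹ = v from (mul_inv_eq_iff_eq_mul.1 this).symm
  by_cases hva : v ∈ zpowers a
  · exact hfix v hva
  have hv' : x * v * x⁻¹ ∉ zpowers a := fun h => by
    have h2 : x * v * x⁻¹ = v := (MulAut.conj x).injective (hfix _ h)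
    exact hva (by rwa [h2] at h)
  set ρ := v⁻¹ * (x * v * x⁻¹) with hρ
  have hρa : ρ ∈ zpowers a := by
    have h := (mul_mem_iff_of_index_two hidx (a := (⟨v, hv⟩ : P)⁻¹) (b := ⟨_, hx v hv⟩)).2
      (iff_of_false (by rw [inv_mem_iff, hout]; exact hva) ((hout _).2 hv'))
    obtain ⟨k, hk⟩ := h
    exact ⟨k, by have := congrArg Subtype.val hk; simpa using this⟩
  have ht : x * v * x⁻¹ = v * ρ := by rw [hρ, mul_inv_cancel_left]
  have hρx : ∀ k : ℕ, x ^ k * v * (x ^ k)⁻¹ = v * ρ ^ k := by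
    intro k
    induction k with
    | zero => simp
    | succ k ih =>
      calc x ^ (k + 1) * v * (x ^ (k + 1))⁻¹ = x * (x ^ k * v * (x ^ k)⁻¹) * x⁻¹ := by
            rw [pow_succ']; group
        _ = (x * v * x⁻¹) * (x * ρ ^ k * x⁻¹) := by rw [ih]; group
        _ = v * ρ ^ (k + 1) := by rw [hfix _ (pow_mem hρa k), ht, mul_assoc, ← pow_succ']
  have h1 : ρ ^ orderOf x = 1 := by
    have := hρx (orderOf x)
    rw [pow_orderOf_eq_one, one_mul, inv_one, mul_one] at this
    exact mul_eq_left.1 this.symm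
  have h2 : ρ ^ 2 ^ (c + 1) = 1 := by
    rw [← hcord, Subgroup.orderOf_mk]
    exact orderOf_dvd_iff_pow_eq_one.1 (orderOf_dvd_of_mem_zpowers hρa)
  have hg := pow_gcd_eq_one.2 ⟨h1, h2⟩
  rw [show Nat.gcd (orderOf x) (2 ^ (c + 1)) = 1 from
    (Nat.coprime_two_right.2 hodd).pow_right _, pow_one] at hg
  rw [ht, hg, mul_one]

omit [Finite G] in
/-- A 2-group with a cyclic subgroup of index at most two is 2-generated. -/
theorem index_frattini_le {Q : Type v} [Group Q] [Finite Q] (hQ : IsPGroup 2 Q) {C : Subgroup Q}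
    [IsCyclic C] (hC : C.index ≤ 2) : (frattini Q).index ≤ 4 := by
  obtain ⟨⟨c, hcC⟩, hgen⟩ := IsCyclic.exists_generator (α := C)
  have hc : zpowers c = C := by
    refine le_antisymm (zpowers_le.2 hcC) fun q hq => ?_
    obtain ⟨i, hi⟩ := hgen ⟨q, hq⟩
    exact ⟨i, by have := congrArg Subtype.val hi; simpa using this⟩
  have hle : zpowers (c ^ 2) ≤ frattini Q := zpowers_le.2 (PGroup.pow_mem_frattini hQ c)
  refine (index_antitone hle).trans ?_
  have h1 := (zpowers (c ^ 2)).card_mul_index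
  have h2 := (zpowers c).card_mul_index
  rw [Nat.card_zpowers] at h1 h2
  rw [hc] at h2
  have h3 : orderOf c ≤ 2 * orderOf (c ^ 2) :=
    Nat.le_of_dvd (by have := orderOf_pos (c ^ 2); omega) (orderOf_dvd_of_pow_eq_one (by
      rw [pow_mul, pow_orderOf_eq_one]))
  refine Nat.le_of_mul_le_mul_left ?_ (orderOf_pos (c ^ 2))
  rw [h1, ← h2]
  calc orderOf c * C.index ≤ 2 * orderOf (c ^ 2) * 2 := Nat.mul_le_mul h3 hC
    _ = _ := by ring

/-- `O(X) = 1`, solvable, dihedral or semidihedral Sylow 2-subgroups: at most two classes of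
elements of odd order. -/
theorem exists_two_classes (hC : centralizer (Cfsg.pCore 2 G : Set G) ≤ Cfsg.pCore 2 G)
    (S : Sylow 2 G) (hS : CyclicTwo (S : Subgroup G)) :
    ∃ r : Fin 2 → G, ∀ x : G, Odd (orderOf x) → ∃ i, IsConj x (r i) := by
  classical
  haveI : Fact (Nat.Prime 2) := ⟨Nat.prime_two⟩
  set Q := Cfsg.pCore 2 G with hQdef
  have hQS : Q ≤ S := PCore.pCore_le_sylow S
  have hQp : IsPGroup 2 Q := PCore.isPGroup_pCore
  -- the quotient by the Frattini subgroup of `Q`
  set Φ := (frattini Q).map Q.subtype with hΦ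
  haveI : Φ.Normal := by rw [hΦ]; infer_instance
  haveI : Q.Normal := PCore.pCore_normal
  haveI hQbn := (inferInstance : Q.Normal).map (QuotientGroup.mk' Φ) (QuotientGroup.mk'_surjective _)
  set Qb := Q.map (QuotientGroup.mk' Φ) with hQb
  have hfr : (frattini Q).index ≤ 4 := by
    obtain ⟨a, ha, -⟩ := hS.ex
    haveI : (zpowers a).Normal := normal_of_index_eq_two ha
    set C := (zpowers a).comap (inclusion hQS) with hCd
    haveI : IsCyclic C := isCyclic_of_injective ((inclusion hQS).subgroupComap (zpowers a))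
      (fun p q h => Subtype.ext (inclusion_injective hQS (congrArg Subtype.val h)))
    refine index_frattini_le hQp (C := C) ?_
    rw [hCd, index_comap]
    exact (Nat.le_of_dvd (by omega) (relIndex_dvd_index_of_normal _ _)).trans ha.le
  have hcard : Nat.card Qb ≤ 4 := by
    have hsurj := (QuotientGroup.mk' Φ).subgroupMap_surjective Q
    have hker : ((QuotientGroup.mk' Φ).subgroupMap Q).ker = frattini Q := by
      ext q
      rw [MonoidHom.mem_ker, Subtype.ext_iff]
      show ((q : G) : G ⧸ Φ) = 1 ↔ _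
      rw [QuotientGroup.eq_one_iff, hΦ]
      exact mem_map_iff_mem Q.subtype_injective
    rwa [← Nat.card_congr (QuotientGroup.quotientKerEquivOfSurjective _ hsurj).toEquiv, hker,
      ← index_eq_card]
  let perm : MulAut Qb →* Equiv.Perm {v : Qb // v ≠ 1} :=
    { toFun := fun e => e.toEquiv.subtypeEquiv fun v => by simp
      map_one' := by ext; rfl
      map_mul' := fun e f => by ext; rfl }
  have hperm : Function.Injective perm := fun e f h => by
    refine MulEquiv.ext fun v => ?_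
    by_cases hv : v = 1
    · simp [hv]
    · exact congrArg (fun π : Equiv.Perm {v : Qb // v ≠ 1} => ((π ⟨v, hv⟩ : Qb))) h
  let f : G →* MulAut Qb := (MulAut.conjNormal (H := Qb)).comp (QuotientGroup.mk' Φ)
  have hker : f.ker ≤ Q := fun g hg => by
    refine (PCore.mem_pCore_iff_frattini hC).1 fun z hz => ?_
    have h1 := congrArg (fun e : MulAut Qb => ((e ⟨_, mem_map_of_mem _ hz⟩ : Qb) : G ⧸ Φ))
      (MonoidHom.mem_ker.1 hg)
    simp only [f, MonoidHom.comp_apply, MulAut.conjNormal_apply, MulAut.one_apply,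
      QuotientGroup.mk'_apply] at h1
    show _ ∈ Φ
    rw [← QuotientGroup.eq_one_iff, QuotientGroup.mk_mul, QuotientGroup.mk_mul, QuotientGroup.mk_mul,
      QuotientGroup.mk_inv, QuotientGroup.mk_inv, h1, mul_inv_cancel]
  have hQ6 : Q.index ∣ 6 := by
    refine (index_dvd_of_le hker).trans ?_
    rw [index_ker]
    refine (card_subgroup_dvd_card _).trans ((card_dvd_of_injective perm hperm).trans ?_)
    rw [Nat.card_perm]
    show _ ∣ Nat.factorial 3
    refine Nat.factorial_dvd_factorial ?_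
    haveI := Fintype.ofFinite Qb
    rw [Nat.card_eq_fintype_card] at hcard ⊢
    have := Fintype.card_subtype_lt (p := fun v : Qb => v ≠ 1) (x := 1) (by simp)
    omega
  obtain ⟨k, hk⟩ := IsPGroup.iff_card.1 hQp
  have hGcard : Nat.card G = 2 ^ k * Q.index := by rw [← hk, Q.card_mul_index]
  have hodd_card : ∀ d : ℕ, Odd d → d ∣ Nat.card G → d ∣ 3 := fun d hd hdv => by
    have h1 : d ∣ Q.index := ((Nat.coprime_two_right.2 hd).pow_right k).dvd_of_dvd_mul_left (hGcard ▸ hdv)
    exact (Nat.coprime_two_right.2 hd).dvd_of_dvd_mul_left (h1.trans hQ6 : d ∣ 2 * 3)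
  have hord : ∀ z : G, Odd (orderOf z) → z ≠ 1 → orderOf z = 3 := fun z hz hz1 =>
    ((Nat.dvd_prime Nat.prime_three).1 (hodd_card _ hz (orderOf_dvd_natCard z))).resolve_left
      (mt orderOf_eq_one_iff.1 hz1)
  by_cases hy : ∀ z : G, Odd (orderOf z) → z = 1
  · exact ⟨fun _ => 1, fun z hz => ⟨0, by rw [hy z hz]⟩⟩
  push Not at hy
  obtain ⟨y, hyodd, hy1⟩ := hy
  haveI : Fact (Nat.Prime 3) := ⟨Nat.prime_three⟩
  have hy3 := hord y hyodd hy1
  have hf3 : (Nat.card G).factorization 3 = 1 := by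
    refine le_antisymm ?_ ?_
    · by_contra h
      have h9 : 3 ^ 2 ∣ Nat.card G :=
        (pow_dvd_pow 3 (show 2 ≤ _ by omega)).trans (Nat.ordProj_dvd _ 3)
      exact absurd (hodd_card _ ((by decide : Odd 3).pow) h9) (by norm_num)
    · exact Nat.Prime.factorization_pos_of_dvd Nat.prime_three Nat.card_pos.ne'
        (hy3 ▸ orderOf_dvd_natCard y)
  have hy3' : Nat.card (zpowers y) = 3 ^ (Nat.card G).factorization 3 := by
    rw [Nat.card_zpowers, hy3, hf3, pow_one]
  set R : Sylow 3 G := Sylow.ofCard (zpowers y) hy3' with hR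
  have hmem : ∀ w ∈ zpowers y, w = 1 ∨ w = y ∨ w = y⁻¹ := by
    intro w hw
    obtain ⟨j, hj⟩ := mem_zpowers_iff.1 hw
    rw [← zpow_mod_orderOf, hy3] at hj
    rw [← hj]
    rcases (show j % 3 = 0 ∨ j % 3 = 1 ∨ j % 3 = 2 by omega) with h | h | h
    · exact Or.inl (by simp [h])
    · exact Or.inr (Or.inl (by simp [h]))
    · refine Or.inr (Or.inr ?_)
      rw [show j % ((3 : ℕ) : ℤ) = (2 : ℤ) by exact_mod_cast h]
      refine eq_inv_of_mul_eq_one_left ?_
      rw [show (2 : ℤ) = ((2 : ℕ) : ℤ) from rfl, zpow_natCast, ← pow_succ,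
        show (2 + 1 : ℕ) = orderOf y from hy3.symm, pow_orderOf_eq_one]
  have hconjy : IsConj y y⁻¹ := by
    by_contra hno
    have hN : normalizer (R : Set G) ≤ centralizer (R : Set G) := by
      intro g hg
      have h1 : g * y * g⁻¹ ∈ zpowers y := (mem_normalizer_iff.1 hg y).1 (mem_zpowers y)
      have h2 : g * y * g⁻¹ = y := by
        rcases hmem _ h1 with h | h | h
        · exact absurd (by simpa using h) hy1
        · exact h
        · exact absurd (isConj_iff.2 ⟨g, h⟩) hno
      refine mem_centralizer_iff.2 fun w hw => ?_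
      obtain ⟨j, rfl⟩ := (show w ∈ zpowers y from hw)
      exact ((show Commute y g from (mul_inv_eq_iff_eq_mul.1 h2).symm).zpow_left j).eq
    obtain ⟨R', K, hK, hcompl⟩ := Transfer.hasNormalPComplement_of_normalizer_le_centralizer R hN
    have hKcard : Nat.card K * 3 = Nat.card G := by
      rw [← hcompl.card_mul_card, R'.card_eq_multiplicity, hf3, pow_one]
    have hK2 : IsPGroup 2 K := by
      refine PCore.isPGroup_of_prime_dvd_eq fun q hq hd => ?_
      by_contra hq2
      have hqodd : Odd q := hq.odd_of_ne_two hq2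
      obtain rfl := (Nat.prime_dvd_prime_iff_eq hq Nat.prime_three).1
        (hodd_card q hqodd (hd.trans ⟨3, hKcard.symm⟩))
      have : 3 ^ 2 ∣ Nat.card G := hKcard ▸ mul_dvd_mul hd dvd_rfl
      exact absurd (hodd_card _ ((by decide : Odd 3).pow) this) (by norm_num)
    have hKQ : K ≤ Q := PCore.le_pCore hK2
    have hSQ : (S : Subgroup G) ≤ Q := by
      obtain ⟨s, hs⟩ := IsPGroup.iff_card.1 S.isPGroup'
      have hdvd : 2 ^ s ∣ Nat.card K := by
        refine ((show Nat.Coprime 2 3 by norm_num).pow_left s).dvd_of_dvd_mul_right ?_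
        rw [hKcard, ← hs]
        exact card_subgroup_dvd_card _
      refine (eq_of_le_of_card_ge hQS ?_).ge
      rw [hs]
      exact (Nat.le_of_dvd Nat.card_pos hdvd).trans (Nat.le_of_dvd Nat.card_pos (card_dvd_of_le hKQ))
    have hyS := hS.centralizes S.isPGroup' hyodd fun q hq =>
      hQS ((inferInstance : Q.Normal).conj_mem q (hSQ hq) y)
    have hyQ : y ∈ Q := hC (mem_centralizer_iff.2 fun q hq => mem_centralizer_iff.1 hyS q (hQS hq))
    obtain ⟨j, hj⟩ := IsPGroup.iff_orderOf.1 hQp ⟨y, hyQ⟩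
    rw [Subgroup.orderOf_mk, hy3] at hj
    cases j with
    | zero => norm_num at hj
    | succ j => rw [pow_succ] at hj; omega
  refine ⟨![1, y], fun z hz => ?_⟩
  by_cases hz1 : z = 1
  · exact ⟨0, by simp [hz1]⟩
  refine ⟨1, ?_⟩
  have hzc : Nat.card (zpowers z) = 3 ^ (Nat.card G).factorization 3 := by
    rw [Nat.card_zpowers, hord z hz hz1, hf3, pow_one]
  obtain ⟨g, hg⟩ := MulAction.exists_smul_eq G (Sylow.ofCard (zpowers z) hzc : Sylow 3 G) R
  have h1 : g * z * g⁻¹ ∈ zpowers y := by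
    have : g * z * g⁻¹ ∈ ((g • Sylow.ofCard (zpowers z) hzc : Sylow 3 G) : Subgroup G) :=
      ⟨z, mem_zpowers z, rfl⟩
    rwa [hg] at this
  have h2 : IsConj z (g * z * g⁻¹) := isConj_iff.2 ⟨g, rfl⟩
  rcases hmem _ h1 with h | h | h
  · exact absurd (by simpa using h) hz1
  · exact h ▸ h2
  · exact (h ▸ h2).trans hconjy.symm

end Cfsg.Agent.DihedralDefect
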