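import Cfsg.Agent.S4492
import Cfsg.Agent.Lib.BlocksX.FongReynolds
import Cfsg.Agent.Lib.Char.TwoOver
import Cfsg.Agent.Lib.DihedralDefect.RankThree.SolvableSylow
import Cfsg.Prelude.Def_BlockRank

/-!
# The rank of a block of a solvable group with a dihedral or semidihedral defect group is at most two
-/

set_option autoImplicit false
set_option linter.style.haveILetI false
set_option linter.unusedSectionVars false

namespace Cfsg.Agent.DihedralDefect

open Cfsg Blocks
open scoped Classical ComplexConjugate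

universe u

section Over

variable {G : Type u} [Group G] [Fintype G] (N : Subgroup G) [N.Normal] [Fintype N]

/-- Over an invariant character the values on a coset are proportional. -/
theorem mul_comm_of_over (θ : IrrCharacter N) (hinv : ∀ g, Char.conjFun N θ.1 g = θ.1)
    {χ ψ : IrrCharacter G} (hχ : classInner (Char.resFun N χ.1) θ.1 ≠ 0)
    (hψ : classInner (Char.resFun N ψ.1) θ.1 ≠ 0) {x y : G} (hxy : (x : G ⧸ N) = y) :
    χ.1 x * ψ.1 y = χ.1 y * ψ.1 x := by
  set C := Subgroup.zpowers (x : G ⧸ N) with hC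
  set X := C.comap (QuotientGroup.mk' N) with hX
  haveI := Fintype.ofFinite X
  haveI := Fintype.ofFinite (N.subgroupOf X)
  haveI := Fintype.ofFinite (X ⧸ N.subgroupOf X)
  have hNX : N ≤ X := fun n hn => by
    rw [hX, Subgroup.mem_comap, QuotientGroup.mk'_apply, (QuotientGroup.eq_one_iff n).2 hn]
    exact one_mem C
  have hx : x ∈ X := Subgroup.mem_zpowers (x : G ⧸ N)
  have hy : y ∈ X := by
    show (y : G ⧸ N) ∈ C
    rw [← hxy]; exact Subgroup.mem_zpowers _
  obtain ⟨ξ, hξ⟩ := FullyRam.exists_ext_cyclic N hNX θ (fun g _ => hinv g) (by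
    rw [hX, Subgroup.map_comap_eq_self_of_surjective (QuotientGroup.mk'_surjective N)]
    infer_instance)
  have hres : IsIrrCharacter (N.subgroupOf X) (Char.resFun (N.subgroupOf X) ξ.1) := by
    have e : Char.resFun (N.subgroupOf X) ξ.1 = (Char.toSubgroupOf N hNX θ).1 := funext fun n =>
      (hξ ⟨_, Subgroup.mem_subgroupOf.1 n.2⟩).trans rfl
    rw [e]
    exact (Char.toSubgroupOf N hNX θ).2
  have hmk : ((⟨x, hx⟩ : X) : X ⧸ N.subgroupOf X) = ((⟨y, hy⟩ : X) : X ⧸ N.subgroupOf X) := by
    rw [QuotientGroup.eq, Subgroup.mem_subgroupOf]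
    exact QuotientGroup.eq.1 hxy
  have key : ∀ η : IrrCharacter G, classInner (Char.resFun N η.1) θ.1 ≠ 0 →
      ∃ F, η.1 x = ξ.1 ⟨x, hx⟩ * F ∧ η.1 y = ξ.1 ⟨y, hy⟩ * F := by
    intro η hη
    obtain ⟨m, hm, hm'⟩ := Char.IsCharacter.exists_decomp
      (Char.IsCharacter.restrict (Char.irr_isCharacter η) X)
    have hterm : ∀ φ : IrrCharacter X, ∃ F : ℂ, (m φ : ℂ) * φ.1 ⟨x, hx⟩ = ξ.1 ⟨x, hx⟩ * F ∧
        (m φ : ℂ) * φ.1 ⟨y, hy⟩ = ξ.1 ⟨y, hy⟩ * F := by
      intro φ
      by_cases h0 : m φ = 0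
      · exact ⟨0, by simp [h0]⟩
      obtain ⟨θ', hθ'⟩ := Char.exists_constituent (N.subgroupOf X) φ
      set e := Subgroup.subgroupOfEquivOfLe hNX
      let θ₀ : IrrCharacter N := ⟨θ'.1 ∘ e.symm.toMonoidHom,
        Char.IsIrrCharacter.comp_surjective θ'.2 e.symm.toMonoidHom e.symm.surjective⟩
      have hθ0 : Char.toSubgroupOf N hNX θ₀ = θ' := Subtype.ext (funext fun n => by
        show θ'.1 (e.symm (e n)) = θ'.1 n
        rw [MulEquiv.symm_apply_apply])
      rw [← hθ0, Char.classInner_toSubgroupOf N hNX] at hθ'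
      have hover : Char.TwoOver.Over N θ₀ η :=
        Char.TwoOver.over_of_constituent hNX η φ (fun h => h0 (by
          rw [show Char.resFun X η.1 = fun z : X => η.1 z from rfl, hm'] at h
          exact_mod_cast h)) hθ'
      have hθ₀ : θ₀ = θ := by
        by_contra hne
        refine hover ?_
        have hin : Char.inertia N θ.1 = ⊤ := eq_top_iff.2 fun a _ => (Char.mem_inertia (N := N)).2 (hinv a)
        have hc : (Char.orbitFinset N θ).card = 1 := by
          rw [← Char.index_inertia, hin, Subgroup.index_top]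
        obtain ⟨θ₁, hθ₁⟩ := Finset.card_eq_one.1 hc
        have hθθ : θ = θ₁ := Finset.mem_singleton.1 (hθ₁ ▸ (Char.mem_orbitFinset N).2 ⟨1,
          Subtype.ext (Char.conjFun_one N θ.1).symm⟩)
        rw [Char.resFun_eq_smul_orbitSum N η θ hη, Char.classInner_smul_left, Char.orbitSum, hθ₁,
          ← hθθ, Finset.sum_singleton,
          Char.classInner_irr_of_ne θ.2 θ₀.2 (fun h => hne (Subtype.ext h.symm)), mul_zero]
      have hov : classInner (Char.resFun (N.subgroupOf X) φ.1)
          (Char.resFun (N.subgroupOf X) ξ.1) ≠ 0 := by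
        have e' : Char.resFun (N.subgroupOf X) ξ.1 = (Char.toSubgroupOf N hNX θ).1 := funext fun n =>
          (hξ ⟨_, Subgroup.mem_subgroupOf.1 n.2⟩).trans rfl
        rw [e', Char.classInner_toSubgroupOf N hNX, ← hθ₀]
        exact hθ'
      obtain ⟨β, hβ⟩ := Char.exists_mulQuotient_eq (N.subgroupOf X) ξ hres φ hov
      refine ⟨(m φ : ℂ) * β.1 ((⟨x, hx⟩ : X) : X ⧸ N.subgroupOf X), ?_, ?_⟩
      · rw [← hβ, Char.mulQuotient_apply]; ring
      · rw [← hβ, Char.mulQuotient_apply, ← hmk]; ring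
    choose F hF₁ hF₂ using hterm
    refine ⟨∑ φ, F φ, ?_, ?_⟩
    · rw [Finset.mul_sum, show η.1 x = (fun z : X => η.1 z) ⟨x, hx⟩ from rfl, hm]
      simp only [Finset.sum_apply, Pi.smul_apply, smul_eq_mul, hF₁]
    · rw [Finset.mul_sum, show η.1 y = (fun z : X => η.1 z) ⟨y, hy⟩ from rfl, hm]
      simp only [Finset.sum_apply, Pi.smul_apply, smul_eq_mul, hF₂]
  obtain ⟨F, h1, h2⟩ := key χ hχ
  obtain ⟨F', h1', h2'⟩ := key ψ hψ
  rw [h1, h2, h1', h2']
  ring

/-- The rank is at most the number of classes of regular cosets. -/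
theorem blockRank_le_of_reps {p : ℕ} [Fact p.Prime] {k : ℕ} (r : Fin k → G ⧸ N)
    (hr : ∀ g : G, IsPRegular p g → ∃ i, IsConj (g : G ⧸ N) (r i)) (B : Set (IrrCharacter G))
    (hrel : ∀ χ ∈ B, ∀ ψ ∈ B, ∀ x y : G, (x : G ⧸ N) = y → χ.1 x * ψ.1 y = χ.1 y * ψ.1 x) :
    blockRank p B ≤ k := by
  let ok : Fin k → G → Prop := fun i g =>
    IsPRegular p g ∧ (g : G ⧸ N) = r i ∧ ∃ χ ∈ B, χ.1 g ≠ 0
  let pick : Fin k → G := fun i => if h : ∃ g, ok i g then h.choose else 1
  set V := Submodule.span ℂ ((fun χ : IrrCharacter G => pRegularPart p χ.1) '' B)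
  have hcl : ∀ φ ∈ V, IsClassFunction G φ ∧ (∀ g, ¬ IsPRegular p g → φ g = 0) ∧
      (∀ g, (∀ χ ∈ B, χ.1 g = 0) → φ g = 0) ∧
      ∀ g g' : G, IsPRegular p g → IsPRegular p g' → (g : G ⧸ N) = g' → ∀ χ ∈ B,
        φ g * χ.1 g' = φ g' * χ.1 g := by
    intro φ hφ
    induction hφ using Submodule.span_induction with
    | mem f hf =>
      obtain ⟨ψ, hψ, rfl⟩ := hf
      refine ⟨fun a c => ?_, fun g hg => if_neg hg, fun g hg => ?_, fun g g' hg hg' he χ hχ => ?_⟩
      · simp only [pRegularPart]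
        rw [Char.IsCharacter.isClassFunction (Char.irr_isCharacter ψ) a c]
        refine if_congr ?_ rfl rfl
        rw [IsPRegular, IsPRegular, show c * a * c⁻¹ = MulAut.conj c a from rfl, MulEquiv.orderOf_eq]
      · simp [pRegularPart, hg ψ hψ]
      · simp only [pRegularPart, if_pos hg, if_pos hg']
        exact hrel ψ hψ χ hχ g g' he
    | zero => exact ⟨fun _ _ => rfl, fun _ _ => rfl, fun _ _ => rfl, fun _ _ _ _ _ _ _ => by simp⟩
    | add a b _ _ ha hb =>
      exact ⟨fun u v => by simp [ha.1 u v, hb.1 u v], fun g hg => by simp [ha.2.1 g hg, hb.2.1 g hg],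
        fun g hg => by simp [ha.2.2.1 g hg, hb.2.2.1 g hg], fun g g' h1 h2 h3 χ h4 => by
          simp only [Pi.add_apply, add_mul, ha.2.2.2 g g' h1 h2 h3 χ h4,
            hb.2.2.2 g g' h1 h2 h3 χ h4]⟩
    | smul c a _ ha =>
      exact ⟨fun u v => by simp [ha.1 u v], fun g hg => by simp [ha.2.1 g hg],
        fun g hg => by simp [ha.2.2.1 g hg], fun g g' h1 h2 h3 χ h4 => by
          simp only [Pi.smul_apply, smul_eq_mul, mul_assoc, ha.2.2.2 g g' h1 h2 h3 χ h4]⟩
  let L : (G → ℂ) →ₗ[ℂ] (Fin k → ℂ) :=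
    { toFun := fun φ i => φ (pick i), map_add' := fun _ _ => rfl, map_smul' := fun _ _ => rfl }
  have hinj : Function.Injective (L.domRestrict V) := by
    rw [injective_iff_map_eq_zero]
    rintro ⟨φ, hφ⟩ h0
    refine Subtype.ext (funext fun g => ?_)
    obtain ⟨hc, hz, hvan, hprop⟩ := hcl φ hφ
    show φ g = 0
    by_cases hg : IsPRegular p g
    swap
    · exact hz g hg
    obtain ⟨i, hi⟩ := hr g hg
    obtain ⟨q, hq⟩ := isConj_iff.1 hi
    obtain ⟨c, rfl⟩ := QuotientGroup.mk_surjective q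
    rw [← hc g c]
    set g' := c * g * c⁻¹ with hg'd
    have hg' : IsPRegular p g' := by
      rwa [hg'd, IsPRegular, show c * g * c⁻¹ = MulAut.conj c g from rfl, MulEquiv.orderOf_eq]
    have hgi : (g' : G ⧸ N) = r i := by
      rw [hg'd, QuotientGroup.mk_mul, QuotientGroup.mk_mul, QuotientGroup.mk_inv]; exact hq
    by_cases hall : ∀ χ ∈ B, χ.1 g' = 0
    · exact hvan g' hall
    push Not at hall
    have hex : ∃ w, ok i w := ⟨g', hg', hgi, hall⟩
    obtain ⟨hw, hwi, χ, hχ, hne⟩ := hex.choose_spec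
    have hp : φ (pick i) = 0 := congrFun h0 i
    simp only [pick, dif_pos hex] at hp
    have := hprop g' _ hg' hw (hgi.trans hwi.symm) χ hχ
    rw [hp, zero_mul] at this
    exact (mul_eq_zero.1 this).resolve_right hne
  calc blockRank p B = Module.finrank ℂ V := rfl
    _ ≤ Module.finrank ℂ (Fin k → ℂ) := LinearMap.finrank_le_finrank_of_injective hinj
    _ = k := Module.finrank_fin_fun ℂ

end Over

/-- Induction from the stabilizer does not increase the rank. -/
theorem blockRank_image_le {G : Type u} [Group G] [Fintype G] (T : Subgroup G) {p : ℕ}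
    (f : IrrCharacter T → IrrCharacter G) {A : Set (IrrCharacter T)}
    (hf : ∀ ψ ∈ A, (f ψ).1 = indFun T ψ.1) : blockRank p (f '' A) ≤ blockRank p A := by
  let L : (T → ℂ) →ₗ[ℂ] (G → ℂ) :=
    { toFun := indFun T, map_add' := Char.indFun_add T, map_smul' := Char.indFun_smul T }
  have hcomm : ∀ ψ ∈ A, pRegularPart p (f ψ).1 = L (pRegularPart p ψ.1) := by
    intro ψ hψ
    funext g
    show _ = indFun T (pRegularPart p ψ.1) g
    rw [hf ψ hψ]
    unfold pRegularPart indFun
    have key : ∀ x : G, extendByZero T (fun t : T => if IsPRegular p t then ψ.1 t else 0)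
        (x⁻¹ * g * x) = if IsPRegular p g then extendByZero T ψ.1 (x⁻¹ * g * x) else 0 := by
      intro x
      by_cases h : x⁻¹ * g * x ∈ T
      · rw [Char.extendByZero_of_mem _ _ h, Char.extendByZero_of_mem _ _ h]
        refine if_congr ?_ rfl rfl
        rw [IsPRegular, IsPRegular, ← Subgroup.orderOf_coe,
          show orderOf (x⁻¹ * g * x) = orderOf g by
            rw [← MulEquiv.orderOf_eq (MulAut.conj x⁻¹) g]; simp [mul_assoc]]
      · rw [Char.extendByZero_of_notMem _ _ h, Char.extendByZero_of_notMem _ _ h, ite_self]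
    simp only [key]
    split_ifs with h <;> simp [h]
  have himg : Submodule.span ℂ ((fun χ : IrrCharacter G => pRegularPart p χ.1) '' (f '' A)) =
      (Submodule.span ℂ ((fun ψ : IrrCharacter T => pRegularPart p ψ.1) '' A)).map L := by
    rw [Submodule.map_span, Set.image_image, Set.image_image]
    congr 1
    exact Set.image_congr fun ψ hψ => hcomm ψ hψ
  unfold blockRank
  rw [himg]
  exact Submodule.finrank_map_le L _

/-- A block of a solvable group with such a defect group has rank at most two. -/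
theorem blockRank_le_two_of_solvable {M : Ideal AlgInt} (hM : IsPModular 2 M) :
    ∀ {G : Type u} [Group G] [Fintype G], Group.IsSolvable G →
      ∀ (B : Set (IrrCharacter G)), IsPBlock M B → ∀ D : Subgroup G, IsDefectGroup 2 M B D →
        CyclicTwo D → blockRank 2 B ≤ 2 := by
  haveI : Fact (Nat.Prime 2) := ⟨Nat.prime_two⟩
  haveI := hM.2.1
  suffices h : ∀ (n : ℕ) (G : Type u) [Group G] [Fintype G], Nat.card G = n → Group.IsSolvable G →
      ∀ (B : Set (IrrCharacter G)), IsPBlock M B → ∀ D : Subgroup G, IsDefectGroup 2 M B D →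
        CyclicTwo D → blockRank 2 B ≤ 2 by
    intro G _ _
    exact h _ G rfl
  intro n
  induction n using Nat.strong_induction_on with
  | _ n ih =>
  intro G _ _ hn hsol B hB D hD hcyc
  haveI := hsol
  have hpM := hM.2.2
  have hs : IsPSolvable 2 G := PCore.isPSolvable_of_isSolvable
  obtain ⟨χ, hχ⟩ := block_nonempty hB
  set N := pPrimeCore 2 G with hNdef
  haveI := Fintype.ofFinite N
  have hNp : ¬ 2 ∣ Nat.card N :=
    Nat.prime_two.coprime_iff_not_dvd.1 (PCore.coprime_card_pPrimeCore (p := 2) (G := G)).symm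
  obtain ⟨θ, hθ⟩ := Char.exists_constituent N χ
  have hb : blockOf M θ.1 = {θ} := (blockOf_eq_singleton_iff hpM θ).2 (by
    rw [Nat.factorization_eq_zero_of_not_dvd hNp,
      Nat.factorization_eq_zero_of_not_dvd fun h => hNp (h.trans (Char.degree_dvd_natCard θ))])
  set T := Char.inertia N θ.1 with hT
  haveI := Fintype.ofFinite T
  have hNT : N ≤ T := Char.le_inertia N (Char.IsCharacter.isClassFunction (Char.irr_isCharacter θ))
  have SD : BlocksX.StabData M N T {θ} := ⟨hNT, hb ▸ isPBlock_blockOf θ, fun g => by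
    rw [hT, Char.mem_inertia]
    exact ⟨fun h η hη => by
      rw [Set.mem_singleton_iff] at hη ⊢
      subst hη
      exact Subtype.ext h, fun h => congrArg Subtype.val (Set.mem_singleton_iff.1 (h θ rfl))⟩⟩
  by_cases htop : T = ⊤
  · have hinv : ∀ g : G, Char.conjFun N θ.1 g = θ.1 := fun g => by
      rw [← Char.mem_inertia, ← hT, htop]; exact Subgroup.mem_top g
    obtain ⟨B₀, hB₀, hiff, -, hdef⟩ := S4492.result 2 M hM hs N hNdef θ fun g m =>
      (Char.conjFun_eq_self_iff N θ.1 g).1 (hinv g) m _ rfl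
    obtain rfl : B = B₀ := block_eq_of_mem hB hB₀ hχ ((hiff χ).2 hθ)
    obtain ⟨P, rfl⟩ := hdef D hD
    have hcore : pPrimeCore 2 (G ⧸ N) = ⊥ := by
      exact PCore.pPrimeCore_quotient_self_eq_bot
    let π := QuotientGroup.mk' N
    let S : Sylow 2 (G ⧸ N) := P.mapSurjective (QuotientGroup.mk'_surjective N)
    have hcS : CyclicTwo (S : Subgroup (G ⧸ N)) := by
      refine hcyc.congr (MulEquiv.ofBijective (π.subgroupMap (P : Subgroup G))
        ⟨?_, π.subgroupMap_surjective _⟩)
      refine (injective_iff_map_eq_one (π.subgroupMap (P : Subgroup G))).2 ?_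
      rintro ⟨a, ha⟩ h
      refine Subtype.ext ((Subgroup.mem_bot).1 ?_)
      have hdisj : (P : Subgroup G) ⊓ N = ⊥ :=
        disjoint_iff.1 (PCore.disjoint_of_isPGroup_of_coprime P.isPGroup'
          (PCore.coprime_card_pPrimeCore (p := 2) (G := G)))
      rw [← hdisj]
      exact ⟨ha, (QuotientGroup.eq_one_iff a).1 (congrArg Subtype.val h)⟩
    obtain ⟨r, hr⟩ := exists_two_classes
      (PCore.centralizer_pCore_le (PCore.isPSolvable_quotient hs N) hcore) S hcS
    refine blockRank_le_of_reps N r (fun g hg => hr _ ?_) B fun a ha c hc x y hxy =>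
      mul_comm_of_over N θ hinv ((hiff a).1 ha) ((hiff c).1 hc) hxy
    exact Nat.odd_iff.2 (Nat.two_dvd_ne_zero.1 fun h => hg (h.trans (orderOf_map_dvd π g)))
  · have hlt : Nat.card T < n := by
      rw [← hn]
      exact lt_of_le_of_ne (Nat.le_of_dvd Nat.card_pos T.card_subgroup_dvd_card)
        fun h => htop (Subgroup.eq_top_of_card_eq T h)
    obtain ⟨ψ, hψ, he⟩ := SD.exists_over_T (Set.mem_singleton θ) hθ
    have hB' := isPBlock_blockOf (M := M) ψ
    have hsub : blockOf M ψ.1 ⊆ BlocksX.overB T {θ} := SD.blockOf_subset hψ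
    have hχeq : BlocksX.frMap T (Char.trivialChar G) ψ = χ :=
      Subtype.ext ((SD.frMap_coe hψ).trans he.symm)
    have himg : B = BlocksX.frMap T (Char.trivialChar G) '' blockOf M ψ.1 := by
      rw [SD.image_block hB' hsub (mem_blockOf_self ψ), hχeq]
      exact block_eq hB hχ
    obtain ⟨Q, hQ⟩ := exists_defectGroup (p := 2) hB'
    have hQG := SD.defectGroup hpM hsub (B := B) (himg ▸ SD.isInducedBlock hB' hsub) hQ
    obtain ⟨x, hx⟩ := defectGroup_conj hpM hB hD hQG
    have hcQ : CyclicTwo Q := by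
      have e1 := Subgroup.equivMapOfInjective Q _ T.subtype_injective
      have e2 := Subgroup.equivMapOfInjective (Q.map T.subtype) (MulAut.conj x).toMonoidHom (MulAut.conj x).injective
      exact hcyc.congr (((e1.trans e2).trans (MulEquiv.subgroupCongr hx)).symm)
    rw [himg]
    exact (blockRank_image_le T _ fun η hη => SD.frMap_coe (hsub hη)).trans
      (ih _ hlt T rfl inferInstance _ hB' Q hQ hcQ)

end Cfsg.Agent.DihedralDefect
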